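import Mathlib
import Cfsg.Agent.LieClassical.SympCenter
import Cfsg.Agent.H194.FieldExt
import Cfsg.Prelude.Def_Classical

/-!
# `PSL₂(q^d)` in `PSp_{2d}(q)`

Restriction of scalars (`Cfsg.Agent.H374.P4.Emb` of helper374 for `d = 2`), for any degree.
-/

set_option autoImplicit false

namespace Cfsg.Agent.H807.S69.ToSp

open Matrix Cfsg

variable {F E : Type*} [Field F] [Field E] [Algebra F E] {d : ℕ} (b : Module.Basis (Fin d) F E)

/-- The Gram matrix of the trace form. -/
noncomputable def T : Matrix (Fin d) (Fin d) F := Algebra.traceMatrix F b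

theorem T_symm : (T b)ᵀ = T b := by
  ext i j
  rw [transpose_apply, T, Algebra.traceMatrix_apply, Algebra.traceMatrix_apply,
    Algebra.traceForm_apply, Algebra.traceForm_apply, mul_comm]

theorem T_mul (x : E) : T b * Algebra.leftMulMatrix b x = (Algebra.leftMulMatrix b x)ᵀ * T b := by
  have key : ∀ i j, (T b * Algebra.leftMulMatrix b x) i j = Algebra.trace F E (b i * (x * b j)) := by
    intro i j
    rw [Matrix.mul_apply]
    have h1 : x * b j = ∑ k, (Algebra.leftMulMatrix b x k j) • b k := by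
      simp only [Algebra.leftMulMatrix_eq_repr_mul]
      exact (b.sum_repr _).symm
    rw [h1, Finset.mul_sum, map_sum]
    refine Finset.sum_congr rfl fun k _ => ?_
    rw [T, Algebra.traceMatrix_apply, Algebra.traceForm_apply, mul_smul_comm, map_smul, smul_eq_mul, mul_comm]
  ext i j
  rw [key]
  have h2 : (Algebra.leftMulMatrix b x)ᵀ * T b = (T b * Algebra.leftMulMatrix b x)ᵀ := by
    rw [transpose_mul, T_symm]
  rw [h2, transpose_apply, key]
  congr 1
  ring

theorem det_T [FiniteDimensional F E] [Algebra.IsSeparable F E] : IsUnit (T b).det := by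
  have := Algebra.discr_not_zero_of_basis F b
  exact isUnit_iff_ne_zero.2 this

variable {b}

theorem conj_T (hT : IsUnit (T b).det) (x : E) :
    (T b)⁻¹ * (Algebra.leftMulMatrix b x)ᵀ = Algebra.leftMulMatrix b x * (T b)⁻¹ := by
  have h := T_mul b x
  calc (T b)⁻¹ * (Algebra.leftMulMatrix b x)ᵀ
      = (T b)⁻¹ * ((Algebra.leftMulMatrix b x)ᵀ * T b) * (T b)⁻¹ := by
        rw [mul_assoc, mul_assoc, Matrix.mul_nonsing_inv _ hT, mul_one]
    _ = Algebra.leftMulMatrix b x * (T b)⁻¹ := by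
        rw [← h, ← mul_assoc, Matrix.nonsing_inv_mul _ hT, one_mul]

theorem T_inv_symm : ((T b)⁻¹)ᵀ = (T b)⁻¹ := by rw [transpose_nonsing_inv, T_symm]

variable (b)

/-- Restriction of scalars. -/
noncomputable def blk (g : Matrix (Fin 2) (Fin 2) E) : Matrix (Fin d ⊕ Fin d) (Fin d ⊕ Fin d) F :=
  fromBlocks (Algebra.leftMulMatrix b (g 0 0)) (Algebra.leftMulMatrix b (g 0 1) * (T b)⁻¹)
    (T b * Algebra.leftMulMatrix b (g 1 0)) (Algebra.leftMulMatrix b (g 1 1))ᵀ

variable {b}

theorem blk_mul (hT : IsUnit (T b).det) (g h : Matrix (Fin 2) (Fin 2) E) : blk b (g * h) = blk b g * blk b h := by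
  unfold blk
  rw [fromBlocks_multiply]
  simp only [Matrix.mul_apply, Fin.sum_univ_two, map_add, map_mul]
  congr 1
  · congr 1
    rw [mul_assoc, ← mul_assoc (T b)⁻¹, Matrix.nonsing_inv_mul _ hT, one_mul]
  · rw [add_mul, mul_assoc, mul_assoc, mul_assoc, conj_T hT]
  · rw [mul_add, ← mul_assoc, ← mul_assoc, mul_assoc, mul_assoc]
    congr 1
    rw [← mul_assoc, ← mul_assoc (Algebra.leftMulMatrix b (g 1 1))ᵀ, ← T_mul]
  · rw [transpose_add]
    congr 1
    · rw [← map_mul, mul_comm (g 1 0), map_mul, transpose_mul]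
      rw [mul_assoc, ← mul_assoc (Algebra.leftMulMatrix b (g 1 0)), ← map_mul, mul_comm (g 1 0)]
      rw [← mul_assoc, T_mul, mul_assoc, Matrix.mul_nonsing_inv _ hT, mul_one, map_mul, transpose_mul]
    · rw [← map_mul, mul_comm (g 1 1), map_mul, transpose_mul]

theorem blk_one : blk b (1 : Matrix (Fin 2) (Fin 2) E) = 1 := by
  unfold blk
  simp

theorem blk_mem (hT : IsUnit (T b).det) {g : Matrix (Fin 2) (Fin 2) E} (hg : g.det = 1) :
    blk b g ∈ symplecticGroup (Fin d) F := by
  rw [blk, SymplecticGroup.fromBlocks_mem_iff]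
  have hc : ∀ x y : E, Algebra.leftMulMatrix b x * Algebra.leftMulMatrix b y =
      Algebra.leftMulMatrix b y * Algebra.leftMulMatrix b x := fun x y => by
    rw [← map_mul, mul_comm, map_mul]
  refine ⟨?_, ?_, ?_⟩
  · rw [transpose_mul, T_symm, ← mul_assoc, ← T_mul, mul_assoc, hc, ← mul_assoc, T_mul]
  · rw [transpose_mul, T_inv_symm, transpose_transpose, conj_T hT, mul_assoc, conj_T hT, ← mul_assoc, ← mul_assoc, hc]
  · rw [transpose_mul, T_symm]
    have h1 : (Algebra.leftMulMatrix b (g 1 0))ᵀ * T b * (Algebra.leftMulMatrix b (g 0 1) * (T b)⁻¹) =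
        (Algebra.leftMulMatrix b (g 0 1 * g 1 0))ᵀ := by
      rw [← T_mul, mul_assoc, ← mul_assoc (Algebra.leftMulMatrix b (g 1 0)), ← map_mul, ← mul_assoc, T_mul,
        mul_assoc, Matrix.mul_nonsing_inv _ hT, mul_one, mul_comm (g 1 0)]
    rw [h1, ← transpose_mul, ← map_mul, ← transpose_sub, ← map_sub, mul_comm (g 1 1), ← det_fin_two, hg, map_one,
      transpose_one]

/-- `SL₂(E) → Sp_{2d}(F)`. -/
noncomputable def hom (hT : IsUnit (T b).det) : SpecialLinearGroup (Fin 2) E →* symplecticGroup (Fin d) F where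
  toFun g := ⟨blk b g.1, blk_mem hT g.2⟩
  map_one' := Subtype.ext blk_one
  map_mul' g h := Subtype.ext (blk_mul hT g.1 h.1)

/-- `SL₂(E) → PSp_{2d}(F)`. -/
noncomputable def homP (hT : IsUnit (T b).det) : SpecialLinearGroup (Fin 2) E →* PSp d F :=
  (QuotientGroup.mk' _).comp (hom hT)

theorem lam_scalar {x : E} {a : F} (h : Algebra.leftMulMatrix b x = a • 1) : x = algebraMap F E a := by
  apply Algebra.leftMulMatrix_injective b
  rw [h, AlgHom.commutes, Algebra.algebraMap_eq_smul_one]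

theorem homP_eq_one (hT : IsUnit (T b).det) {g : SpecialLinearGroup (Fin 2) E} (hg : homP hT g = 1) :
    g ∈ Subgroup.center (SpecialLinearGroup (Fin 2) E) := by
  rw [homP, MonoidHom.comp_apply, ← MonoidHom.mem_ker, QuotientGroup.ker_mk',
    LieClassical.SympCenter.mem_center_iff] at hg
  obtain ⟨a, ha⟩ := hg
  have h0 : blk b g.1 = fromBlocks (a • 1) 0 0 (a • 1) := by
    rw [← smul_zero a, ← fromBlocks_smul, fromBlocks_one]
    exact ha
  rw [blk, fromBlocks_inj] at h0
  obtain ⟨h1, h2, h3, h4⟩ := h0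
  have e1 := lam_scalar h1
  have e4 : g.1 1 1 = algebraMap F E a := by
    apply lam_scalar (b := b)
    rw [← transpose_transpose (Algebra.leftMulMatrix b (g.1 1 1)), h4, transpose_smul, transpose_one]
  have e2 : g.1 0 1 = 0 := by
    apply Algebra.leftMulMatrix_injective b
    rw [map_zero, ← mul_one (Algebra.leftMulMatrix b (g.1 0 1)), ← Matrix.nonsing_inv_mul _ hT, ← mul_assoc, h2,
      zero_mul]
  have e3 : g.1 1 0 = 0 := by
    apply Algebra.leftMulMatrix_injective b
    rw [map_zero, ← one_mul (Algebra.leftMulMatrix b (g.1 1 0)), ← Matrix.nonsing_inv_mul _ hT, mul_assoc, h3,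
      mul_zero]
  rw [Subgroup.mem_center_iff]
  intro h
  apply Subtype.ext
  have e : g.1 = algebraMap F E a • (1 : Matrix (Fin 2) (Fin 2) E) := by
    ext i j
    fin_cases i <;> fin_cases j <;> simp [e1, e2, e3, e4]
  change h.1 * g.1 = g.1 * h.1
  rw [e, mul_smul_comm, smul_mul_assoc, mul_one, one_mul]

theorem homP_center (hT : IsUnit (T b).det) {g : SpecialLinearGroup (Fin 2) E}
    (hg : g ∈ Subgroup.center (SpecialLinearGroup (Fin 2) E)) : homP hT g = 1 := by
  rw [homP, MonoidHom.comp_apply, ← MonoidHom.mem_ker, QuotientGroup.ker_mk',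
    LieClassical.SympCenter.mem_center_iff]
  rw [Matrix.SpecialLinearGroup.mem_center_iff] at hg
  obtain ⟨r, hr, hg⟩ := hg
  rw [Fintype.card_fin] at hr
  have hr' : ∃ a : F, algebraMap F E a = r := by
    rcases sq_eq_one_iff.1 hr with rfl | rfl
    · exact ⟨1, map_one _⟩
    · exact ⟨-1, by rw [map_neg, map_one]⟩
  obtain ⟨a, rfl⟩ := hr'
  refine ⟨a, ?_⟩
  change blk b g.1 = _
  have h1 : Algebra.leftMulMatrix b (algebraMap F E a) = a • (1 : Matrix (Fin d) (Fin d) F) := by
    rw [AlgHom.commutes, Algebra.algebraMap_eq_smul_one]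
  have h2 : fromBlocks (a • (1 : Matrix (Fin d) (Fin d) F)) 0 0 (a • 1) =
      a • (1 : Matrix (Fin d ⊕ Fin d) (Fin d ⊕ Fin d) F) := by
    rw [← fromBlocks_one, fromBlocks_smul, smul_zero]
  have h3 : g.1 0 0 = algebraMap F E a := by rw [← hg]; simp
  have h4 : g.1 1 1 = algebraMap F E a := by rw [← hg]; simp
  have h5 : g.1 0 1 = 0 := by rw [← hg]; simp
  have h6 : g.1 1 0 = 0 := by rw [← hg]; simp
  rw [← h2, blk, h3, h4, h5, h6, h1, map_zero, zero_mul, mul_zero, transpose_smul, transpose_one]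

variable (b) in
/-- `PSL₂(E) → PSp_{2d}(F)`. -/
theorem exists_emb (hT : IsUnit (T b).det) :
    ∃ ψ : ProjectiveSpecialLinearGroup (Fin 2) E →* PSp d F, Function.Injective ψ := by
  refine ⟨QuotientGroup.lift _ (homP hT) (fun g hg => homP_center hT hg), ?_⟩
  rw [injective_iff_map_eq_one]
  intro x hx
  obtain ⟨g, rfl⟩ := QuotientGroup.mk_surjective x
  rw [QuotientGroup.eq_one_iff]
  exact homP_eq_one hT hx

/-- **`PSL₂(q ^ d) → PSp_{2d}(q)`.** -/
theorem psl_to_psp' {F : Type*} [Field F] [Fintype F] {E : Type*} [Field E] [Fintype E] {d : ℕ} (hd : d ≠ 0)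
    (hE : Fintype.card E = Fintype.card F ^ d) :
    ∃ f : Matrix.ProjectiveSpecialLinearGroup (Fin 2) E →* PSp d F, Function.Injective f := by
  obtain ⟨φ⟩ := H194.FieldExt.nonempty_ringHom hd hE rfl
  letI : Algebra F E := φ.toAlgebra
  have hr : Module.finrank F E = d := H194.FieldExt.finrank_eq hE rfl
  let b : Module.Basis (Fin d) F E := (Module.finBasis F E).reindex (finCongr hr)
  exact exists_emb b (det_T b)

end Cfsg.Agent.H807.S69.ToSp
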