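import Cfsg.Agent.H214.S69.Defs
import Cfsg.Agent.H807.S69.ToSp
import Cfsg.Agent.H807.S69.ToOm

/-!
# Task 2101: `PSL₂(q⁴)` in `PSp₈(q)` and in `PΩ₈⁻(q)` (S3469 T4b)
-/

set_option autoImplicit false

namespace Cfsg.Agent.H807.S69

open Cfsg Cfsg.Agent.H903.SylSemi Cfsg.Agent.H214.S69

/-- **`PSL₂(q⁴) ≤ PSp₈(q)`.** -/
theorem psl_to_psp {F : Type} [Field F] [Fintype F] (ho : Odd (Fintype.card F)) {E : Type} [Field E] [Fintype E]
    (hE : Fintype.card E = Fintype.card F ^ 4) :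
    ∃ f : Matrix.ProjectiveSpecialLinearGroup (Fin 2) E →* PSp 4 F, Function.Injective f :=
  ToSp.psl_to_psp' (by norm_num) hE

/-- **`PSL₂(q⁴) ≤ PΩ₈⁻(q)`.** -/
theorem psl_to_ominus {F : Type} [Field F] [Fintype F] (ho : Odd (Fintype.card F)) {E : Type} [Field E] [Fintype E]
    (hE : Fintype.card E = Fintype.card F ^ 4) {a b : F} (hab : Aniso a b) :
    ∃ f : Matrix.ProjectiveSpecialLinearGroup (Fin 2) E →* POmega F (quadFormMinus 3 F a b), Function.Injective f :=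
  ToOm.psl_to_ominus' hE hab

end Cfsg.Agent.H807.S69
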